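import Cfsg.Agent.J4Uniq.RA.Data
import Cfsg.Agent.TenLocal.OrbData
import Cfsg.Agent.TenLocal.OctCheck
import Cfsg.Agent.J4DC.TSym

/-!
# Checks for the first long relator
-/

set_option autoImplicit false
set_option maxRecDepth 100000

namespace Cfsg.Agent.J4Uniq.RA

open Cfsg Cfsg.Agent.Compute
open TenLocal (mapp matOf)
open TenLocal.Oct (uOf mOf)

/-- A permutation of the trio stabiliser. -/
noncomputable def trB (g : ℕ) : Bool :=
  inM24B g && Nat.beq (rep24.sift J4DC.trioChain g) rep24.one

/-- `s h = h' g` with `g` in the trio stabiliser. -/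
noncomputable def mapB (s h h' g : ℕ) : Bool :=
  trB g && Nat.beq (rep24.mul s h) (rep24.mul h' g)

/-- A permutation carries a member of the standard group to another. -/
noncomputable def moveB (s n n' : ℕ) : Bool :=
  Nat.blt n' 1024 && Nat.beq (mapp (matOf s) (uOf n)) (uOf n') &&
    Nat.beq (rep24.mul s (TenLocal.Oct.rC (mOf n))) (rep24.mul (TenLocal.Oct.rC (mOf n')) s)

/-- The matrix of a permutation on the standard group. -/
noncomputable def matB (s : ℕ) (L : List ℕ) : Bool :=
  inM24B s && Nat.beq L.length 10 && allBelow 10 fun i => moveB s (2 ^ i) (L.getD i 0)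

/-- The carrier of a trio. -/
def hAt (i : ℕ) : ℕ := hC.getD i 0

/-- An element fixing the listed trios. -/
noncomputable def entryB (pts : List ℕ) (e : ℕ × List ℕ × List ℕ) : Bool :=
  matB e.1 e.2.1 && allBelow pts.length fun k =>
    mapB e.1 (hAt (pts.getD k 0)) (hAt (pts.getD k 0)) (e.2.2.getD k 0)

/-- The vectors fixed by the kernel of the action on the first trio. -/
def zList : List ℕ := [0, 16, 33, 49, 130, 146, 163, 179]

/-- The unit vectors outside the translations. -/
def uIdx : List ℕ := [1, 2, 4, 16, 32, 128]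

theorem hC_ok : hC.all inM24B = true := by decide +kernel

theorem base_ok : (inM24B kC && matB yC yL &&
    Nat.beq (rep24.mul (hAt 0) (J4M24.evalCode
      [(1, true), (0, true), (1, false), (0, true), (1, true), (0, true), (1, false), (0, true)])) kC &&
    Nat.beq (rep24.mul yC kC) (rep24.mul kC (J4M24.evalCode [(1, true)])) &&
    mapB yC (hAt 0) (hAt 1) rep24.one && mapB yC (hAt 1) (hAt 2) rep24.one &&
    mapB yC (hAt 2) (hAt 0) rep24.one && Nat.beq (mapp yL 49) 49) = true := by decide +kernel

theorem trans_ok : allBelow 4 (fun i =>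
    Nat.beq (uOf ([8, 64, 256, 512].getD i 0)) 0 && Nat.beq (mOf ([8, 64, 256, 512].getD i 0)) (2 ^ i) &&
      mapB (TenLocal.Oct.rC (2 ^ i)) (hAt 0) (hAt 0) (rW.getD i 0)) = true := by decide +kernel

theorem zvec_ok : allBelow 3 (fun i =>
    Nat.beq (mOf ([130, 179, 146].getD i 0)) 0 &&
      Nat.beq (mapp (matOf (hAt 0)) ([836, 1000, 1418].getD i 0)) (uOf ([130, 179, 146].getD i 0))) = true := by
  decide +kernel

theorem uC_ok : (uC.all fun e => e.2.all fun f => entryB [0] f &&
    zList.any fun a => Nat.beq a (Nat.xor (mapp f.2.1 e.1) e.1)) = true := by decide +kernel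

theorem uC_fix : (uC.all fun e => allBelow 1024 fun d =>
    !(e.2.all fun f => Nat.beq (mapp f.2.1 d) d) || Nat.beq (uOf d) 0) = true := by decide +kernel

theorem uC_idx : (uC.map fun e => e.1) = uIdx := by decide +kernel

theorem transl : allBelow 1024 (fun r => (!(Nat.beq (uOf r) 0) ||
      (Nat.beq (Nat.land r 840) r && Nat.beq (uOf (mapp yL r)) 0)) &&
    Nat.beq (uOf (Nat.land r 840)) 0) = true := by decide +kernel

theorem yL_cube : allBelow 1024 (fun n => Nat.beq (mapp yL (mapp yL (mapp yL n))) n) = true := by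
  decide +kernel

theorem dC_ok : entryB [0, 1, 2] dC = true := by decide +kernel

theorem eC_ok : (eC.all (entryB [0, 1, 2])) = true := by decide +kernel

theorem eC_fix : allBelow 1024 (fun e =>
    !(eC.all fun f => Nat.beq (mapp f.2.1 e) e) || (Nat.beq e 0 || Nat.beq e 49)) = true := by decide +kernel

/-- Fixed by both. -/
noncomputable def fixBoth (n : ℕ) : Bool :=
  Nat.beq (mapp yL n) n && Nat.beq (mapp dC.2.1 n) n

/-- Killed by both traces. -/
noncomputable def nilBoth (n : ℕ) : Bool :=
  Nat.beq (Nat.xor (Nat.xor n (mapp yL n)) (mapp yL (mapp yL n))) 0 &&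
    Nat.beq (Nat.xor (Nat.xor n (mapp dC.2.1 n)) (mapp dC.2.1 (mapp dC.2.1 n))) 0

theorem psi_ok : (psiB.all fun b => Nat.blt b 1024 && (fixBoth b || nilBoth b || Nat.beq (uOf b) 0)) = true := by
  decide +kernel

theorem psi_span : allBelow 10 (fun i => Nat.beq (mapp psiB (psiC.getD i 0)) (2 ^ i)) = true := by
  decide +kernel

theorem psi_trans : allBelow 1024 (fun r => !(Nat.beq (uOf r) 0) || Nat.beq r 0 ||
    (!fixBoth r && !nilBoth r)) = true := by decide +kernel

/-- A line of the configuration. -/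
noncomputable def lineB (e : ℕ × ℕ × List ℕ × List ℕ × List ℕ) : Bool :=
  inM24B e.1 && moveB e.1 49 e.2.1 && allBelow 3 fun j =>
    mapB e.1 (hAt (e.2.2.1.getD j 0)) (hAt (e.2.2.2.1.getD j 0)) (e.2.2.2.2.getD j 0)

theorem lineC_ok : lineC.all lineB = true := by decide +kernel

theorem lineC_shape : (lineC.map fun e => (e.2.1, e.2.2.1, e.2.2.2.1)) =
    [(48, [2, 1, 0], [2, 3, 5]), (32, [2, 0, 1], [1, 3, 4]), (33, [0, 2, 1], [0, 4, 5])] := by decide +kernel

theorem szC_ok : (szC.all (entryB [0])) = true := by decide +kernel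

theorem szC_img : (szC.map fun e => mapp e.2.1 32) = [167, 128] ∧ Nat.beq (mOf 39) 0 = true ∧
    TenLocal.Oct.oMask1.testBit 39 = true := by decide +kernel

end Cfsg.Agent.J4Uniq.RA
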