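import Cfsg.Agent.J4Uniq.RA.Tools
import Cfsg.Agent.J4Uniq.Centre
import Cfsg.Agent.J4Uniq.NormW

/-!
# The conjugates of the third generator act on the standard group by transvections
-/

set_option autoImplicit false
set_option maxRecDepth 20000

open Cfsg Subgroup

namespace Cfsg.Agent.J4Uniq

open LargeExtra (oc)
open LargeFischer (W11 bv)
open J4Type (mSub)
open J4Type.V11
open Compute (rep24 inM24B mem_M24_of_check allBelow_eq_true)
open TenLocal
open TenLocal.Oct (uOf mOf rC)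

variable {G : Type*} [Group G] [Finite G] {z : G} {P : Subgroup G} {V : Type*}
  [AddCommGroup V] {π : ↥(oc z) →* Multiplicative V} {ρ : ↥(mSub z P) →* Equiv.Perm V}
  {q : V → ZMod 2} {B : List V} {S : Sys z P π ρ q B} (T : Sect S) {t : G}

theorem uOf_xor' (a b : ℕ) : uOf (a ^^^ b) = uOf a ^^^ uOf b := mapp_xor _ a b

theorem xor_lt' {a b : ℕ} (ha : a < 1024) (hb : b < 1024) : a ^^^ b < 1024 :=
  Nat.xor_lt_two_pow (n := 10) ha hb

/-- An element commuting with two members of the standard group commutes with their product. -/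
theorem comm_xor {g : G} {a b : ℕ} (ha : a < 1024) (hb : b < 1024) (h : Commute g (T.sEl a))
    (h' : Commute g (T.sEl b)) : Commute g (T.sEl (a ^^^ b)) := by
  rw [← T.sEl_mul ha hb]; exact h.mul_right h'

/-- An element acting on the standard group by adding translations. -/
structure Tame (g : G) (f : ℕ → ℕ) : Prop where
  lt : ∀ n < 1024, f n < 1024
  tr : ∀ n < 1024, uOf (f n) = 0
  conj : ∀ n < 1024, g * T.sEl n * g⁻¹ = T.sEl (n ^^^ f n)
  comm : ∀ r < 1024, uOf r = 0 → Commute g (T.sEl r)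

variable {T}

theorem Tame.zero {g : G} {f : ℕ → ℕ} (h : Tame T g f) {r : ℕ} (hr : r < 1024) (h0 : uOf r = 0) :
    f r = 0 := by
  have e := h.conj r hr
  rw [(h.comm r hr h0).eq, mul_inv_cancel_right] at e
  have := T.sEl_inj hr (xor_lt' hr (h.lt r hr)) e
  have h2 : r ^^^ r = r ^^^ (r ^^^ f r) := congrArg (fun a => r ^^^ a) this
  rwa [Nat.xor_self, ← Nat.xor_assoc, Nat.xor_self, Nat.zero_xor, eq_comm] at h2

theorem Tame.mul {g h : G} {f k : ℕ → ℕ} (hg : Tame T g f) (hh : Tame T h k) :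
    Tame T (g * h) fun n => k n ^^^ f n := by
  refine ⟨fun n hn => xor_lt' (hh.lt n hn) (hg.lt n hn), fun n hn => ?_, fun n hn => ?_,
    fun r hr h0 => ((hg.comm r hr h0).mul_left (hh.comm r hr h0))⟩
  · rw [uOf_xor', hh.tr n hn, hg.tr n hn, Nat.xor_self]
  · have e := hh.conj n hn
    calc g * h * T.sEl n * (g * h)⁻¹ = g * (h * T.sEl n * h⁻¹) * g⁻¹ := by group
      _ = g * (T.sEl n * T.sEl (k n)) * g⁻¹ := by rw [e, ← T.sEl_mul hn (hh.lt n hn)]
      _ = g * T.sEl n * g⁻¹ * (g * T.sEl (k n) * g⁻¹) := by group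
      _ = T.sEl (n ^^^ f n) * T.sEl (k n) := by
          rw [hg.conj n hn, (hg.comm _ (hh.lt n hn) (hh.tr n hn)).eq, mul_inv_cancel_right]
      _ = _ := by
          rw [T.sEl_mul (xor_lt' hn (hg.lt n hn)) (hh.lt n hn), Nat.xor_assoc, Nat.xor_comm (f n)]

theorem Tame.add {g : G} {f : ℕ → ℕ} (h : Tame T g f) {a b : ℕ} (ha : a < 1024) (hb : b < 1024) :
    f (a ^^^ b) = f a ^^^ f b := by
  have e := h.conj _ (xor_lt' ha hb)
  rw [← T.sEl_mul ha hb, show g * (T.sEl a * T.sEl b) * g⁻¹ = g * T.sEl a * g⁻¹ * (g * T.sEl b * g⁻¹) by group,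
    h.conj a ha, h.conj b hb, T.sEl_mul (xor_lt' ha (h.lt a ha)) (xor_lt' hb (h.lt b hb))] at e
  have e2 := T.sEl_inj (xor_lt' (xor_lt' ha (h.lt a ha)) (xor_lt' hb (h.lt b hb)))
    (xor_lt' (xor_lt' ha hb) (h.lt _ (xor_lt' ha hb))) e
  have e3 : a ^^^ b ^^^ (f a ^^^ f b) = a ^^^ b ^^^ f (a ^^^ b) := by
    rw [← e2]; simp [Nat.xor_assoc, Nat.xor_left_comm]
  have e4 := congrArg (fun v => a ^^^ b ^^^ v) e3
  simp only [← Nat.xor_assoc (a ^^^ b) (a ^^^ b), Nat.xor_self, Nat.zero_xor] at e4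
  exact e4.symm

theorem Tame.conj_y {g : G} {f : ℕ → ℕ} (h : Tame T g f) :
    ∃ k, Tame T (kg T RA.yC * g * (kg T RA.yC)⁻¹) k ∧
      ∀ n < 1024, k (mapp RA.yL n) = mapp RA.yL (f n) := by
  have hb := RA.base_ok
  simp only [Bool.and_eq_true] at hb
  have hmat : RA.matB RA.yC RA.yL = true := hb.1.1.1.1.1.1.2
  set Y := kg T RA.yC with hY
  have hLt : ∀ {n}, n < 1024 → mapp RA.yL n < 1024 := fun hn => (kg_mat T hmat hn).1
  have hcube : ∀ {m}, m < 1024 → mapp RA.yL (mapp RA.yL (mapp RA.yL m)) = m := fun hm =>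
    Nat.eq_of_beq_eq_true (allBelow_eq_true.1 RA.yL_cube _ hm)
  have htr : ∀ {r}, r < 1024 → uOf r = 0 → uOf (mapp RA.yL r) = 0 := by
    intro r hr h0
    have := allBelow_eq_true.1 RA.transl r hr
    simp only [h0, Nat.beq_refl, Bool.not_true, Bool.false_or, Bool.and_eq_true] at this
    exact Nat.eq_of_beq_eq_true this.1.2
  refine ⟨fun m => mapp RA.yL (f (mapp RA.yL (mapp RA.yL m))), ⟨fun m hm => hLt (h.lt _ (hLt (hLt hm))),
    fun m hm => htr (h.lt _ (hLt (hLt hm))) (h.tr _ (hLt (hLt hm))), fun m hm => ?_, fun r hr h0 => ?_⟩,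
    fun n hn => ?_⟩
  · have hp := hLt (hLt hm)
    have e := (kg_mat T hmat hp).2
    rw [hcube hm] at e
    calc Y * g * Y⁻¹ * T.sEl m * (Y * g * Y⁻¹)⁻¹
        = Y * (g * T.sEl (mapp RA.yL (mapp RA.yL m)) * g⁻¹) * Y⁻¹ := by rw [← e, hY]; group
      _ = T.sEl (mapp RA.yL (mapp RA.yL (mapp RA.yL m) ^^^ f (mapp RA.yL (mapp RA.yL m)))) := by
          rw [h.conj _ hp, (kg_mat T hmat (xor_lt' hp (h.lt _ hp))).2]
      _ = _ := by rw [mapp_xor, hcube hm]
  · have hp := hLt (hLt hr)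
    have hp0 : uOf (mapp RA.yL (mapp RA.yL r)) = 0 := htr (hLt hr) (htr hr h0)
    have e := (kg_mat T hmat hp).2
    rw [hcube hr] at e
    rw [← e, hY]
    exact (h.comm _ hp hp0).map (MulAut.conj (kg T RA.yC)).toMonoidHom
  · show mapp RA.yL (f (mapp RA.yL (mapp RA.yL (mapp RA.yL n)))) = _
    rw [hcube hn]

variable (T)

theorem tame_zero (hT : Pure T)
    (ht : IsCentre T t) :
    ∃ f, Tame T (tp T t 0) f ∧ (∀ n ∈ RA.zList, Commute (tp T t 0) (T.sEl n)) := by
  set a := tp T t 0 with ha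
  -- the translations
  have htr : ∀ i < 4, Commute a (T.sEl ([8, 64, 256, 512].getD i 0)) := by
    intro i hi
    have h := allBelow_eq_true.1 RA.trans_ok i hi
    simp only [Bool.and_eq_true] at h
    obtain ⟨⟨hu, hm⟩, hmap⟩ := h
    have hm16 : 2 ^ i < 16 := lt_of_lt_of_le (Nat.pow_lt_pow_right (by norm_num) hi) (by norm_num)
    have hin : inM24B (rC (2 ^ i)) = true :=
      (by decide +kernel : ∀ i < 4, inM24B (rC (2 ^ i)) = true) i hi
    have e : T.sEl ([8, 64, 256, 512].getD i 0) = kg T (rC (2 ^ i)) := by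
      rw [Sect.sEl, Nat.eq_of_beq_eq_true hu, Nat.eq_of_beq_eq_true hm, LargeFischer.bv_zero, Sect.el,
        wg_zero, one_mul, kg_eq T hin]
      exact congrArg (fun σ : ↥M24 => ((T.kap σ : ↥T.F.nrm) : G)) (Subtype.ext (rEl_val hm16))
    have := tp_map T ht hin (i := 0) (j := 0) (by norm_num) (by norm_num) hmap
    rw [e]
    exact (mul_inv_eq_iff_eq_mul.1 this).symm
  -- the vectors of the centre
  have hzz : ∀ i < 3, Commute a (T.sEl ([130, 179, 146].getD i 0)) := by
    intro i hi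
    have h := allBelow_eq_true.1 RA.zvec_ok i hi
    simp only [Bool.and_eq_true] at h
    have hc : Commute t (wg T.F (bv ([836, 1000, 1418].getD i 0))) :=
      centre_comm_sextet T hT ht (by interval_cases i <;> simp)
    have hv : [836, 1000, 1418].getD i 0 < 2048 := by interval_cases i <;> simp
    obtain ⟨hok, hmem⟩ := mem_M24_of_check (hAt_ok (i := 0) (by norm_num))
    have e : kg T (RA.hAt 0) * wg T.F (bv ([836, 1000, 1418].getD i 0)) * (kg T (RA.hAt 0))⁻¹ =
        T.sEl ([130, 179, 146].getD i 0) := by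
      rw [T.sEl_low (Nat.eq_of_beq_eq_true h.1), ← Nat.eq_of_beq_eq_true h.2, ← T.act_code hok hmem hv,
        kg_eq T (hAt_ok (i := 0) (by norm_num)), T.kap_wg, mul_inv_cancel_right]
    rw [← e, ha, tp]
    exact hc.map (MulAut.conj (kg T (RA.hAt 0))).toMonoidHom
  have h130 : Commute a (T.sEl 130) := hzz 0 (by norm_num)
  have h179 : Commute a (T.sEl 179) := hzz 1 (by norm_num)
  have h146 : Commute a (T.sEl 146) := hzz 2 (by norm_num)
  have h16 : Commute a (T.sEl 16) := comm_xor T (a := 130) (b := 146) (by norm_num) (by norm_num) h130 h146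
  have h33 : Commute a (T.sEl 33) := comm_xor T (a := 179) (b := 146) (by norm_num) (by norm_num) h179 h146
  have hz : ∀ n ∈ RA.zList, Commute a (T.sEl n) := by
    intro n hn
    simp only [RA.zList, List.mem_cons, List.not_mem_nil, or_false] at hn
    rcases hn with rfl | rfl | rfl | rfl | rfl | rfl | rfl | rfl
    · rw [T.sEl_zero]; exact Commute.one_right a
    · exact h16
    · exact h33
    · exact comm_xor T (a := 16) (b := 33) (by norm_num) (by norm_num) h16 h33
    · exact h130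
    · exact h146
    · exact comm_xor T (a := 130) (b := 33) (by norm_num) (by norm_num) h130 h33
    · exact h179
  have hnorm : a ∈ normalizer (T.std : Set G) := norm_std T (by
    intro n hn
    simp only [List.mem_cons, List.not_mem_nil, or_false] at hn
    rcases hn with rfl | rfl | rfl | rfl | rfl | rfl | rfl
    exacts [htr 0 (by norm_num), htr 1 (by norm_num), htr 2 (by norm_num), htr 3 (by norm_num), h16, h33, h130])
  have hr : ∀ r < 1024, Commute a (T.sEl (r &&& 840)) := by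
    refine bitInd (P := fun r => Commute a (T.sEl (r &&& 840))) 10 ?_ (fun x y hx hy ex ey => ?_) fun i hi => ?_
    · rw [Nat.zero_and, T.sEl_zero]; exact Commute.one_right a
    · rw [Nat.and_xor_distrib_right]
      exact comm_xor T (lt_of_le_of_lt Nat.and_le_left hx) (lt_of_le_of_lt Nat.and_le_left hy) ex ey
    · interval_cases i
      all_goals first
        | (show Commute a (T.sEl 0); rw [T.sEl_zero]; exact Commute.one_right a)
        | exact htr 0 (by norm_num)
        | exact htr 1 (by norm_num)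
        | exact htr 2 (by norm_num)
        | exact htr 3 (by norm_num)
  have hcomm : ∀ r < 1024, uOf r = 0 → Commute a (T.sEl r) := by
    intro r hlt h0
    have := allBelow_eq_true.1 RA.transl r hlt
    rw [h0] at this
    simp only [Nat.beq_refl, Bool.not_true, Bool.false_or, Bool.and_eq_true] at this
    rw [← Nat.eq_of_beq_eq_true this.1.1]
    exact hr r hlt
  have himg : ∀ n < 1024, ∃ m < 1024, a * T.sEl n * a⁻¹ = T.sEl m := fun n hn =>
    (mem_normalizer_iff.1 hnorm _).1 (T.sEl_mem hn)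
  have hu : ∀ n ∈ RA.uIdx, ∃ d < 1024, uOf d = 0 ∧ a * T.sEl n * a⁻¹ = T.sEl (n ^^^ d) := by
    intro n hn
    rw [← RA.uC_idx, List.mem_map] at hn
    obtain ⟨e, he, rfl⟩ := hn
    have hn' : e.1 < 1024 := by
      have := List.mem_map_of_mem (f := fun e => e.1) he
      rw [RA.uC_idx] at this
      simp only [RA.uIdx, List.mem_cons, List.not_mem_nil, or_false] at this
      omega
    obtain ⟨m, hm, em⟩ := himg e.1 hn'
    refine ⟨e.1 ^^^ m, xor_lt' hn' hm, ?_, by rw [← Nat.xor_assoc, Nat.xor_self, Nat.zero_xor, em]⟩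
    have hfix : ∀ f ∈ e.2, mapp f.2.1 (e.1 ^^^ m) = e.1 ^^^ m := by
      intro f hf
      have hok := List.all_eq_true.1 (List.all_eq_true.1 RA.uC_ok e he) f hf
      simp only [Bool.and_eq_true, RA.entryB, List.any_eq_true] at hok
      obtain ⟨⟨hmat, hpts⟩, ζ, hζ, eζ⟩ := hok
      have hs : inM24B f.1 = true := by
        simp only [RA.matB, Bool.and_eq_true] at hmat; exact hmat.1.1
      have hfix0 := tp_map T ht hs (i := 0) (j := 0) (by norm_num) (by norm_num)
        (allBelow_eq_true.1 hpts 0 (by simp))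
      rw [← ha] at hfix0
      have h1 := (kg_mat T hmat hn').2
      have h2 := (kg_mat T hmat hm).2
      have h3 : a * T.sEl (mapp f.2.1 e.1) * a⁻¹ = T.sEl (mapp f.2.1 m) := by
        rw [← h1, ← h2, ← em]
        calc a * (kg T f.1 * T.sEl e.1 * (kg T f.1)⁻¹) * a⁻¹
            = kg T f.1 * a * (kg T f.1)⁻¹ * (kg T f.1 * T.sEl e.1 * (kg T f.1)⁻¹) *
              (kg T f.1 * a * (kg T f.1)⁻¹)⁻¹ := by rw [hfix0]
          _ = _ := by group
      have hζlt : ζ < 1024 := by
        simp only [RA.zList, List.mem_cons, List.not_mem_nil, or_false] at hζ; omega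
      have eL : mapp f.2.1 e.1 = ζ ^^^ e.1 := by
        rw [Nat.eq_of_beq_eq_true eζ]
        show _ = mapp f.2.1 e.1 ^^^ e.1 ^^^ e.1
        rw [Nat.xor_assoc, Nat.xor_self, Nat.xor_zero]
      have h4 : a * T.sEl (ζ ^^^ e.1) * a⁻¹ = T.sEl (ζ ^^^ m) := by
        rw [← T.sEl_mul hζlt hn', ← T.sEl_mul hζlt hm, ← em]
        calc a * (T.sEl ζ * T.sEl e.1) * a⁻¹ = a * T.sEl ζ * (T.sEl e.1 * a⁻¹) := by group
          _ = T.sEl ζ * a * (T.sEl e.1 * a⁻¹) := by rw [(hz ζ hζ).eq]
          _ = _ := by group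
      rw [eL, h4] at h3
      have eM := T.sEl_inj (xor_lt' hζlt hm) (kg_mat T hmat hm).1 h3
      rw [mapp_xor, eL, ← eM]
      simp [Nat.xor_left_comm, Nat.xor_comm]
    have hchk := allBelow_eq_true.1 (List.all_eq_true.1 RA.uC_fix e he) (e.1 ^^^ m) (xor_lt' hn' hm)
    rw [Bool.or_eq_true, Bool.not_eq_true'] at hchk
    rcases hchk with h | h
    · rw [← Bool.not_eq_true, List.all_eq_true] at h
      exact absurd (fun f hf => by rw [hfix f hf]; exact Nat.beq_refl _) h
    · exact Nat.eq_of_beq_eq_true h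
  have hall : ∀ n < 1024, ∃ d < 1024, uOf d = 0 ∧ a * T.sEl n * a⁻¹ = T.sEl (n ^^^ d) := by
    refine bitInd (P := fun n => ∃ d < 1024, uOf d = 0 ∧ a * T.sEl n * a⁻¹ = T.sEl (n ^^^ d)) 10
      ⟨0, by norm_num, mapp_zero _, by rw [T.sEl_zero]; group; rw [Nat.xor_zero, T.sEl_zero]⟩
      (fun x y hx hy ⟨d, hd, d0, ed⟩ ⟨d', hd', d0', ed'⟩ => ⟨d ^^^ d', xor_lt' hd hd',
        by rw [uOf_xor', d0, d0', Nat.xor_self], ?_⟩) fun i hi => ?_
    · rw [← T.sEl_mul hx hy, show a * (T.sEl x * T.sEl y) * a⁻¹ = a * T.sEl x * a⁻¹ * (a * T.sEl y * a⁻¹) by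
        group, ed, ed', T.sEl_mul (xor_lt' hx hd) (xor_lt' hy hd')]
      simp [Nat.xor_assoc, Nat.xor_left_comm]
    · have key : ∀ j, j < 4 → ∃ d < 1024, uOf d = 0 ∧
          a * T.sEl ([8, 64, 256, 512].getD j 0) * a⁻¹ = T.sEl ([8, 64, 256, 512].getD j 0 ^^^ d) :=
        fun j hj => ⟨0, by norm_num, mapp_zero _, by rw [(htr j hj).eq, mul_inv_cancel_right, Nat.xor_zero]⟩
      interval_cases i
      exacts [hu 1 (by decide), hu 2 (by decide), hu 4 (by decide), key 0 (by norm_num), hu 16 (by decide),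
        hu 32 (by decide), key 1 (by norm_num), hu 128 (by decide), key 2 (by norm_num), key 3 (by norm_num)]
  choose! f hf1 hf2 hf3 using hall
  exact ⟨f, ⟨hf1, hf2, hf3, hcomm⟩, hz⟩

end Cfsg.Agent.J4Uniq
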