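import Cfsg.Agent.J4Uniq.Base
import Cfsg.Agent.J4Uniq.RA.Checks

/-!
# Conjugates of the third generator, and the matrices of permutations on the standard group
-/

set_option autoImplicit false
set_option maxRecDepth 20000

open Cfsg Subgroup

namespace Cfsg.Agent.J4Uniq

open LargeExtra (oc)
open LargeFischer (W11 bv)
open J4Type (mSub)
open J4Type.V11
open Compute (rep24 inM24B mem_M24_of_check)
open TenLocal
open TenLocal.Oct (uOf mOf rC)

variable {G : Type*} [Group G] [Finite G] {z : G} {P : Subgroup G} {V : Type*} [AddCommGroup V]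
  {π : ↥(oc z) →* Multiplicative V} {ρ : ↥(mSub z P) →* Equiv.Perm V} {q : V → ZMod 2} {B : List V}
  {S : Sys z P π ρ q B} (T : Sect S) {t : G}

/-- The element of the section with the given code. -/
noncomputable def kg (c : ℕ) : G :=
  open scoped _root_.Classical in
  if h : rep24.den c ∈ M24 then (T.kap ⟨_, h⟩ : G) else 1

theorem kg_eq {c : ℕ} (hc : inM24B c = true) :
    kg T c = (T.kap ⟨rep24.den c, (mem_M24_of_check hc).2⟩ : G) := by
  rw [kg, dif_pos (mem_M24_of_check hc).2]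

/-- Equal products of codes give equal products in the group. -/
theorem kg_rel {a b c d : ℕ} (ha : inM24B a = true) (hb : inM24B b = true) (hc : inM24B c = true)
    (hd : inM24B d = true) (h : Nat.beq (rep24.mul a b) (rep24.mul c d) = true) :
    kg T a * kg T b = kg T c * kg T d := by
  rw [kg_eq T ha, kg_eq T hb, kg_eq T hc, kg_eq T hd, ← coe_mul, ← coe_mul, ← map_mul, ← map_mul]
  refine congrArg (fun σ : ↥M24 => ((T.kap σ : ↥T.F.nrm) : G)) (Subtype.ext ?_)
  show rep24.den a * rep24.den b = rep24.den c * rep24.den d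
  rw [← rep24.den_mul _ _ (mem_M24_of_check ha).1 (mem_M24_of_check hb).1,
    ← rep24.den_mul _ _ (mem_M24_of_check hc).1 (mem_M24_of_check hd).1, Nat.eq_of_beq_eq_true h]

theorem kg_prod {a b c : ℕ} (ha : inM24B a = true) (hb : inM24B b = true) (hc : inM24B c = true)
    (h : Nat.beq (rep24.mul a b) c = true) : kg T a * kg T b = kg T c := by
  rw [kg_eq T ha, kg_eq T hb, kg_eq T hc, ← coe_mul, ← map_mul]
  refine congrArg (fun σ : ↥M24 => ((T.kap σ : ↥T.F.nrm) : G)) (Subtype.ext ?_)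
  show rep24.den a * rep24.den b = rep24.den c
  rw [← rep24.den_mul _ _ (mem_M24_of_check ha).1 (mem_M24_of_check hb).1, Nat.eq_of_beq_eq_true h]

theorem kg_evalCode (w : J4DC.Word) : kg T (J4M24.evalCode w) = wd T w := by
  have hp : rep24.den (J4M24.evalCode w) = J4M24.toPerms (J4DC.qW w) := (J4DC.toPerms_qW w).symm
  have hm : rep24.den (J4M24.evalCode w) ∈ M24 := by
    rw [hp, ← J4M24.range_toPerms]; exact ⟨_, rfl⟩
  rw [kg, dif_pos hm]
  exact congrArg (fun σ : ↥M24 => ((T.kap σ : ↥T.F.nrm) : G)) (Subtype.ext hp)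

theorem qW_cons (a : Fin 2 × Bool) (w : J4DC.Word) : J4DC.qW (a :: w) =
    (if a.2 then PresentedGroup.of a.1 else (PresentedGroup.of a.1)⁻¹) * J4DC.qW w := by
  rw [show a :: w = [a] ++ w from rfl, J4DC.qW_append]
  congr 1
  obtain ⟨i, b⟩ := a
  cases b
  · exact (J4DC.qW_winv [(i, true)]).trans rfl
  · rfl

/-- The third generator commutes with the trio stabiliser. -/
theorem tr_comm (ht : IsCentre T t) {g : ℕ} (hg : RA.trB g = true) : Commute t (kg T g) := by
  simp only [RA.trB, Bool.and_eq_true] at hg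
  have hch := J4DC.trio_chain
  simp only [J4DC.chainB, Bool.and_eq_true, List.all_eq_true, List.any_eq_true] at hch
  have hm := rep24.mem_of_sift J4DC.trioChain hch.1 (mem_M24_of_check hg.1).1 (Nat.eq_of_beq_eq_true hg.2)
  have hle : rep24.chainGroup J4DC.trioChain ≤
      (Subgroup.closure {q | ∃ s ∈ J4DC.trioS, J4DC.qW s = q}).map J4M24.toPerms := by
    rw [Compute.Rep.chainGroup, Compute.Rep.span, Subgroup.closure_le]
    rintro _ ⟨c, hc, rfl⟩
    obtain ⟨s, hs, he⟩ := hch.2 c hc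
    exact ⟨J4DC.qW s, Subgroup.subset_closure ⟨s, hs, rfl⟩,
      by rw [J4DC.toPerms_qW, Nat.eq_of_beq_eq_true he]⟩
  obtain ⟨q, hq, he⟩ := hle hm
  have hx : Commute t (qhom T (J4DC.qW [((0 : Fin 2), true)])) := ht.comm_x
  have hu : Commute t (qhom T (J4DC.qW J4DC.trioV)) := by
    have e : qhom T (J4DC.qW J4DC.trioV) = ug T := by
      have hn : J4DC.qW [] = 1 := map_one _
      simp only [J4DC.trioV, qW_cons, hn, if_true, if_false, Bool.false_eq_true, mul_one, map_mul, map_inv]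
      simp only [ug, xg, yg, pow_succ, pow_zero, one_mul, mul_assoc]
    rw [e]; exact ht.comm_u
  have hgen : ∀ w ∈ J4DC.trioGen, Commute t (qhom T (J4DC.qW w)) := by
    intro w hw
    simp only [J4DC.trioGen, List.mem_cons, List.not_mem_nil, or_false] at hw
    rcases hw with rfl | rfl | rfl
    · exact hx
    · exact hu
    · rw [J4DC.qW_winv, map_inv]; exact hu.inv_right
  have hflat : ∀ p : List ℕ, Commute t (qhom T (J4DC.qW ((p.map fun k => J4DC.trioGen.getD k []).flatten))) := by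
    intro p
    induction p with
    | nil =>
      rw [List.map_nil, List.flatten_nil, show J4DC.qW [] = 1 from map_one _, map_one]
      exact Commute.one_right t
    | cons k p ih =>
      rw [List.map_cons, List.flatten_cons, J4DC.qW_append, map_mul]
      refine Commute.mul_right ?_ ih
      by_cases hk : k < J4DC.trioGen.length
      · rw [List.getD_eq_getElem _ _ hk]; exact hgen _ (List.getElem_mem _)
      · rw [List.getD_eq_default _ _ (Nat.le_of_not_lt hk), show J4DC.qW [] = 1 from map_one _, map_one]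
        exact Commute.one_right t
  have hcl : Subgroup.closure {q | ∃ s ∈ J4DC.trioS, J4DC.qW s = q} ≤
      (Subgroup.centralizer ({t} : Set G)).comap (qhom T) := by
    rw [Subgroup.closure_le]
    rintro _ ⟨s, hs, rfl⟩
    obtain ⟨p, -, rfl⟩ := List.mem_map.1 hs
    exact mem_centralizer_singleton_iff.2 (hflat p).eq.symm
  have hq' : qhom T q * t = t * qhom T q := mem_centralizer_singleton_iff.1 (hcl hq)
  have e : kg T g = qhom T q := by
    rw [kg_eq T hg.1]
    exact congrArg (fun σ : ↥M24 => ((T.kap σ : ↥T.F.nrm) : G)) (Subtype.ext he.symm)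
  rw [e]; exact hq'.symm

/-- The conjugate of the third generator belonging to a trio of the configuration. -/
noncomputable def tp (t : G) (i : ℕ) : G := kg T (RA.hAt i) * t * (kg T (RA.hAt i))⁻¹

theorem hAt_ok {i : ℕ} (hi : i < 6) : inM24B (RA.hAt i) = true := by
  have h := List.all_eq_true.1 RA.hC_ok
  have hl : i < RA.hC.length := lt_of_lt_of_le hi (by decide)
  rw [RA.hAt, List.getD_eq_getElem _ _ hl]
  exact h _ (List.getElem_mem _)

theorem tp_map (ht : IsCentre T t) {s g i j : ℕ} (hs : inM24B s = true) (hi : i < 6) (hj : j < 6)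
    (h : RA.mapB s (RA.hAt i) (RA.hAt j) g = true) :
    kg T s * tp T t i * (kg T s)⁻¹ = tp T t j := by
  simp only [RA.mapB, Bool.and_eq_true] at h
  have e := kg_rel T hs (hAt_ok hi) (hAt_ok hj) (by have := h.1; simp only [RA.trB, Bool.and_eq_true] at this; exact this.1) h.2
  have hc := tr_comm T ht h.1
  rw [tp, tp]
  calc kg T s * (kg T (RA.hAt i) * t * (kg T (RA.hAt i))⁻¹) * (kg T s)⁻¹
      = kg T s * kg T (RA.hAt i) * t * (kg T s * kg T (RA.hAt i))⁻¹ := by group
    _ = kg T (RA.hAt j) * (kg T g * t) * (kg T g)⁻¹ * (kg T (RA.hAt j))⁻¹ := by rw [e]; group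
    _ = _ := by rw [← hc.eq]; group

theorem tp_sq (ht : IsCentre T t) (i : ℕ) : tp T t i * tp T t i = 1 := by
  rw [tp]
  calc kg T (RA.hAt i) * t * (kg T (RA.hAt i))⁻¹ * (kg T (RA.hAt i) * t * (kg T (RA.hAt i))⁻¹)
      = kg T (RA.hAt i) * (t * t) * (kg T (RA.hAt i))⁻¹ := by group
    _ = 1 := by rw [ht.sq]; group

theorem kg_move {s n n' : ℕ} (hs : inM24B s = true) (hn : n < 1024) (h : RA.moveB s n n' = true) :
    n' < 1024 ∧ kg T s * T.sEl n * (kg T s)⁻¹ = T.sEl n' := by
  simp only [RA.moveB, Bool.and_eq_true, Nat.blt_eq] at h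
  obtain ⟨⟨hn', hu⟩, hm⟩ := h
  refine ⟨hn', mul_inv_eq_iff_eq_mul.2 ?_⟩
  obtain ⟨hok, hmem⟩ := mem_M24_of_check hs
  obtain ⟨σ, hσ⟩ : ∃ σ : ↥M24, σ = ⟨rep24.den s, hmem⟩ := ⟨_, rfl⟩
  have e1 : kg T s = T.el 0 σ := by rw [hσ, kg_eq T hs, Sect.el, wg_zero, one_mul]
  have hr : σ * rEl (mOf n) = rEl (mOf n') * σ := by
    obtain ⟨hr1, -, -⟩ := r_facts (coord_facts hn).2.2.1
    obtain ⟨hr2, -, -⟩ := r_facts (coord_facts hn').2.2.1
    refine Subtype.ext ?_
    rw [coe_mul, coe_mul, rEl_val (coord_facts hn).2.2.1, rEl_val (coord_facts hn').2.2.1]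
    rw [show (σ : Equiv.Perm GolayPt) = rep24.den s from congrArg Subtype.val hσ]
    rw [← rep24.den_mul _ _ hok hr1, ← rep24.den_mul _ _ hr2 hok, Nat.eq_of_beq_eq_true hm]
  rw [e1, Sect.sEl, Sect.sEl, T.el_mul, T.el_mul, zero_add, map_zero, add_zero, hr]
  rw [hσ, T.act_code hok hmem (coord_facts hn).2.1, Nat.eq_of_beq_eq_true hu]

theorem kg_mat {s : ℕ} {L : List ℕ} (h : RA.matB s L = true) {n : ℕ} (hn : n < 1024) :
    mapp L n < 1024 ∧ kg T s * T.sEl n * (kg T s)⁻¹ = T.sEl (mapp L n) := by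
  simp only [RA.matB, Bool.and_eq_true] at h
  obtain ⟨⟨hs, hlen⟩, hb⟩ := h
  refine bitInd (P := fun n => mapp L n < 1024 ∧ kg T s * T.sEl n * (kg T s)⁻¹ = T.sEl (mapp L n))
    10 ?_ (fun a b ha hb ⟨la, ea⟩ ⟨lb, eb⟩ => ?_) (fun i hi => ?_) n hn
  · simp only [mapp_zero]
    exact ⟨by norm_num, by rw [T.sEl_zero]; group⟩
  · simp only [mapp_xor]
    refine ⟨Nat.xor_lt_two_pow (n := 10) la lb, ?_⟩
    rw [← T.sEl_mul ha hb, ← T.sEl_mul la lb, ← ea, ← eb]
    group
  · rw [mapp_two_pow]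
    exact kg_move T hs (Nat.pow_lt_pow_right (by norm_num) hi) (Compute.allBelow_eq_true.1 hb i hi)

end Cfsg.Agent.J4Uniq
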